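import Groth.Agent.L07.ModSep.Fibre
import Groth.Agent.L02.SchDom.FlatInj
import Groth.Agent.L06.QuasiFlatOpen

/-!
# Separating families of homomorphisms of quasi-coherent modules (EGA IV 11.10)
-/

universe u

open CategoryTheory Limits AlgebraicGeometry TopologicalSpace Opposite
open scoped TensorProduct

namespace Groth.L07.ModSep

open Groth.L18.Frame (rs ro pull rs_smul rs_rs rs_self ro_ro pull_smul)
open Groth.L16.AffineBC (pullRes isBaseChange_pull isQCoh_pullback)

set_option maxSynthPendingDepth 3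
set_option linter.style.haveILetI false
set_option backward.isDefEq.respectTransparency.types false
set_option backward.isDefEq.respectTransparency false

variable {X : Scheme.{u}} {F : X.Modules} {ι : Type u} {G : ι → X.Modules}

/-- The family is separating: a section killed by every member is zero. -/
def MSep (u : ∀ i, F ⟶ G i) : Prop :=
  ∀ (V : X.Opens) (t : ↑(F.presheaf.obj (op V))),
    (∀ i, (Scheme.Modules.Hom.mapPresheaf (u i)).app (op V) t = 0) → t = 0

/-- A morphism on sections, linearly. -/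
noncomputable def secLin {M N : X.Modules} (φ : M ⟶ N) (V : X.Opens) : Γ(M, V) →ₗ[Γ(X, V)] Γ(N, V) where
  toFun s := φ.app V s
  map_add' a b := map_add (φ.app V).hom a b
  map_smul' a s := φ.app_smul a s

lemma app_rs {M N : X.Modules} (φ : M ⟶ N) {U V : X.Opens} (h : V ≤ U) (s : Γ(M, U)) :
    φ.app V (rs M h s) = rs N h (φ.app U s) :=
  congr($(φ.mapPresheaf.naturality (homOfLE h).op) s)

lemma pullRes_natural {Y : Scheme.{u}} (f : X ⟶ Y) {M N : Y.Modules} (φ : M ⟶ N) {V : Y.Opens} {U : X.Opens}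
    (e : U ≤ f ⁻¹ᵁ V) (m : Γ(M, V)) :
    ((Scheme.Modules.pullback f).map φ).app U (rs _ e (pull f M V m)) = rs _ e (pull f N V (φ.app V m)) := by
  rw [app_rs]
  refine congrArg (rs _ e) ?_
  have h := (Scheme.Modules.pullbackPushforwardAdjunction f).unit.naturality φ
  exact (congr($(congrArg (fun α => Scheme.Modules.Hom.app α V) h) m)).symm

/-- On affine opens a separating family is separating up to powers. -/
theorem MSep.locMSep [Coh.IsQCoh F] [∀ i, Coh.IsQCoh (G i)] {u : ∀ i, F ⟶ G i} (H : MSep u) {V : X.Opens}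
    (hV : IsAffineOpen V) : LocMSep fun i => secLin (u i) V := by
  intro a x hx
  refine Groth.L16.QCohSect.exists_pow_smul_eq_zero hV F a x (H _ _ fun i => ?_)
  show (u i).app (X.basicOpen a) (rs F (X.basicOpen_le a) x) = 0
  rw [app_rs]
  obtain ⟨n, hn⟩ := hx i
  have h0 := congrArg (rs (G i) (X.basicOpen_le a)) hn
  rw [rs_smul] at h0
  have hu : IsUnit (ro (X.basicOpen_le a) (a ^ n)) := by
    show IsUnit ((X.presheaf.map (homOfLE (X.basicOpen_le a)).op) (a ^ n))
    rw [map_pow]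
    exact (X.toRingedSpace.isUnit_res_basicOpen a).pow n
  exact hu.smul_eq_zero.mp (h0.trans (map_zero _))

/-- Separation is local. -/
theorem msep_of_affine [Coh.IsQCoh F] [∀ i, Coh.IsQCoh (G i)] (u : ∀ i, F ⟶ G i)
    (H : ∀ x : X, ∃ U : X.Opens, IsAffineOpen U ∧ x ∈ U ∧ LocMSep fun i => secLin (u i) U) : MSep u := by
  intro W t ht
  refine TopCat.Presheaf.section_ext
    (⟨F.presheaf, F.isSheaf⟩ : TopCat.Sheaf Ab X.toTopCat) _ _ _ fun x hx => ?_
  show F.presheaf.germ W x hx t = F.presheaf.germ W x hx 0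
  rw [map_zero]
  obtain ⟨U, hU, hxU, hL⟩ := H x
  obtain ⟨a, ha, hxa⟩ := hU.exists_basicOpen_le ⟨x, hx⟩ hxU
  obtain ⟨n, s, hs⟩ := Groth.L16.QCohSect.exists_pow_smul_eq_res hU F a (rs F ha t)
  have ht' : ∀ i, (u i).app _ (rs F ha t) = 0 := fun i => by
    rw [app_rs, show (u i).app W t = 0 from ht i]; exact map_zero _
  obtain ⟨l, hl⟩ := hL a s fun i => Groth.L16.QCohSect.exists_pow_smul_eq_zero hU (G i) a _ (by
    show rs (G i) (X.basicOpen_le a) ((u i).app U s) = 0
    rw [← app_rs, hs, Scheme.Modules.Hom.app_smul, ht' i, smul_zero])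
  have h1 := congrArg (rs F (X.basicOpen_le a)) hl
  rw [rs_smul, hs, smul_smul] at h1
  have hu : ∀ n : ℕ, IsUnit (ro (X.basicOpen_le a) (a ^ n)) := fun n => by
    show IsUnit ((X.presheaf.map (homOfLE (X.basicOpen_le a)).op) (a ^ n))
    rw [map_pow]
    exact (X.toRingedSpace.isUnit_res_basicOpen a).pow n
  have h2 : rs F ha t = 0 := ((hu l).mul (hu n)).smul_eq_zero.mp (h1.trans (map_zero _))
  have h3 := congrArg (F.presheaf.germ (X.basicOpen a) x hxa) h2
  rw [map_zero] at h3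
  rw [← h3]
  exact (TopCat.Presheaf.germ_res_apply F.presheaf _ x hxa t).symm

/-- Separation follows from injectivity on affine opens. -/
theorem msep_of_injective (u : ∀ i, F ⟶ G i)
    (H : ∀ (U : X.Opens), IsAffineOpen U → ∀ s : Γ(F, U), (∀ i, (u i).app U s = 0) → s = 0) : MSep u := by
  intro W t ht
  refine TopCat.Presheaf.section_ext
    (⟨F.presheaf, F.isSheaf⟩ : TopCat.Sheaf Ab X.toTopCat) _ _ _ fun x hx => ?_
  show F.presheaf.germ W x hx t = F.presheaf.germ W x hx 0
  rw [map_zero]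
  obtain ⟨_, ⟨U, hU, rfl⟩, hxU, hUW⟩ := X.isBasis_affineOpens.exists_subset_of_mem_open hx W.2
  have h2 := H U hU (rs F hUW t) fun i => by
    rw [app_rs, show (u i).app W t = 0 from ht i]; exact map_zero _
  have h3 := congrArg (F.presheaf.germ U x hxU) h2
  rw [map_zero] at h3
  rw [← h3]
  exact (TopCat.Presheaf.germ_res_apply F.presheaf _ x hxU t).symm

/-- Separation on an affine open of a pullback, read on the base change of the sections. -/
theorem locMSep_pullback_iff {Y : Scheme.{u}} (g : X ⟶ Y) (E : Y.Modules) [Coh.IsQCoh E] {H : ι → Y.Modules}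
    [∀ i, Coh.IsQCoh (H i)] (v : ∀ i, E ⟶ H i) {V : Y.Opens} (hV : IsAffineOpen V) {U : X.Opens}
    (hU : IsAffineOpen U) (e : U ≤ g ⁻¹ᵁ V) (T : Type u) [CommRing T] [Algebra Γ(Y, V) T]
    (eq : letI := (g.appLE V U e).hom.toAlgebra; T ≃ₐ[Γ(Y, V)] Γ(X, U)) :
    LocMSep (fun i => (secLin (v i) V).baseChange T) ↔
      LocMSep fun i => secLin ((Scheme.Modules.pullback g).map (v i)) U := by
  letI : Algebra Γ(Y, V) Γ(X, U) := (g.appLE V U e).hom.toAlgebra
  letI := Module.compHom Γ((Scheme.Modules.pullback g).obj E, U) (g.appLE V U e).hom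
  letI : ∀ i, Module Γ(Y, V) Γ((Scheme.Modules.pullback g).obj (H i), U) := fun i =>
    Module.compHom _ (g.appLE V U e).hom
  haveI : IsScalarTower Γ(Y, V) Γ(X, U) Γ((Scheme.Modules.pullback g).obj E, U) :=
    IsScalarTower.of_algebraMap_smul fun _ _ => rfl
  haveI : ∀ i, IsScalarTower Γ(Y, V) Γ(X, U) Γ((Scheme.Modules.pullback g).obj (H i), U) := fun i =>
    IsScalarTower.of_algebraMap_smul fun _ _ => rfl
  exact locMSep_isBaseChange_iff eq (isBaseChange_pull g E hV hU e)
    (fun i => isBaseChange_pull g (H i) hV hU e) _ fun i m => pullRes_natural g (v i) e m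

/-- A cartesian affine square gives the sections as a tensor product. -/
theorem locMSep_square_iff {S X' S' : Scheme.{u}} {f : X ⟶ S} {f' : X' ⟶ S'} {g' : X' ⟶ X} {g : S' ⟶ S}
    [Coh.IsQCoh F] [∀ i, Coh.IsQCoh (G i)] (u : ∀ i, F ⟶ G i)
    {W : S.Opens} {V : X.Opens} {W' : S'.Opens} {U : X'.Opens} (hV : IsAffineOpen V) (hU : IsAffineOpen U)
    {eV : V ≤ f ⁻¹ᵁ W} {eW : W' ≤ g ⁻¹ᵁ W} {eU : U ≤ g' ⁻¹ᵁ V} {eU' : U ≤ f' ⁻¹ᵁ W'}
    (hp : IsPushout (f.appLE W V eV) (g.appLE W W' eW) (g'.appLE V U eU) (f'.appLE W' U eU')) :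
    letI := (f.appLE W V eV).hom.toAlgebra
    letI := (g.appLE W W' eW).hom.toAlgebra
    LocMSep (fun i => (secLin (u i) V).baseChange (Γ(X, V) ⊗[Γ(S, W)] Γ(S', W'))) ↔
      LocMSep fun i => secLin ((Scheme.Modules.pullback g').map (u i)) U := by
  letI := (f.appLE W V eV).hom.toAlgebra
  letI := (g.appLE W W' eW).hom.toAlgebra
  letI : Algebra Γ(X, V) Γ(X', U) := (g'.appLE V U eU).hom.toAlgebra
  letI : Algebra Γ(S', W') Γ(X', U) := (f'.appLE W' U eU').hom.toAlgebra
  letI : Algebra Γ(S, W) Γ(X', U) := ((algebraMap Γ(X, V) Γ(X', U)).comp (algebraMap Γ(S, W) Γ(X, V))).toAlgebra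
  haveI : IsScalarTower Γ(S, W) Γ(X, V) Γ(X', U) := IsScalarTower.of_algebraMap_eq fun _ => rfl
  haveI : IsScalarTower Γ(S, W) Γ(S', W') Γ(X', U) := IsScalarTower.of_algebraMap_eq fun a => congr($(hp.w).hom a)
  haveI : Algebra.IsPushout Γ(S, W) Γ(X, V) Γ(S', W') Γ(X', U) := CommRingCat.isPushout_iff_isPushout.mp hp
  exact locMSep_pullback_iff g' F u hV hU eU _ (Algebra.IsPushout.equiv Γ(S, W) Γ(X, V) Γ(S', W') Γ(X', U))

/-- Sections of a module flat over the base are flat, on affine pieces. -/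
theorem flat_sections {S : Scheme.{u}} (f : X ⟶ S) (M : X.Modules) [Coh.IsQCoh M] (hflat : FlatMod.IsFlatOver f M)
    {U : S.Opens} (hU : IsAffineOpen U) {V : X.Opens} (hV : IsAffineOpen V) (e : V ≤ f ⁻¹ᵁ U) :
    letI := (f.appLE U V e).hom.toAlgebra
    letI : Module Γ(S, U) Γ(M, V) := Module.compHom _ (f.appLE U V e).hom
    Module.Flat Γ(S, U) Γ(M, V) := by
  letI := (f.appLE U V e).hom.toAlgebra
  letI : Module Γ(S, U) Γ(M, V) := Module.compHom _ (f.appLE U V e).hom
  haveI : IsScalarTower Γ(S, U) Γ(X, V) Γ(M, V) := IsScalarTower.of_algebraMap_smul fun _ _ => rfl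
  apply Module.flat_of_isLocalized_maximal Γ(X, V) Γ(M, V) (fun P _ => LocalizedModule P.primeCompl Γ(M, V))
    (fun P _ => LocalizedModule.mkLinearMap P.primeCompl Γ(M, V))
  intro P hP
  obtain ⟨x, hxV, rfl⟩ := Groth.L16.AffineBC.exists_point hV P
  exact (Groth.L20.ModStalk.isFlatOverAt_iff f M hU hV e hxV).mp (hflat x)

end Groth.L07.ModSep
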