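import Groth.Agent.L02.SchDom.Fibrewise
import Groth.Agent.L02.CAlg.Tor.Lift
import Mathlib.RingTheory.SimpleModule.Basic
import Mathlib.RingTheory.Artinian.Module
import Mathlib.RingTheory.Artinian.Ring
import Mathlib.RingTheory.SimpleModule.InjectiveProjective
import Mathlib.RingTheory.HopkinsLevitzki

/-!
# Separating families of module maps on affine schemes (EGA IV 11.10)
-/

universe u w

namespace Groth.L07.ModSep

open TensorProduct
open Groth.L02.SchDom

set_option maxSynthPendingDepth 3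
set_option linter.style.haveILetI false

/-- A family of module maps which is jointly injective on every principal open. -/
def LocMSep {B : Type u} [CommRing B] {M : Type u} [AddCommGroup M] [Module B M] {ι : Type w}
    {N : ι → Type u} [∀ j, AddCommGroup (N j)] [∀ j, Module B (N j)] (φ : ∀ j, M →ₗ[B] N j) : Prop :=
  ∀ (h : B) (x : M), (∀ j, ∃ n : ℕ, h ^ n • φ j x = 0) → ∃ n : ℕ, h ^ n • x = 0

section General

variable {B : Type u} [CommRing B] {M : Type u} [AddCommGroup M] [Module B M] {ι : Type w}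
  {N : ι → Type u} [∀ j, AddCommGroup (N j)] [∀ j, Module B (N j)] {φ : ∀ j, M →ₗ[B] N j}

lemma LocMSep.eq_zero (H : LocMSep φ) {x : M} (hx : ∀ j, φ j x = 0) : x = 0 := by
  obtain ⟨n, hn⟩ := H 1 x fun j => ⟨0, by simp [hx j]⟩
  simpa using hn

/-- Separation descends along compatible injective semilinear maps. -/
lemma LocMSep.of_semilinear {T : Type u} [CommRing T] {P : Type u} [AddCommGroup P] [Module T P]
    {Q : ι → Type u} [∀ j, AddCommGroup (Q j)] [∀ j, Module T (Q j)] {ψ : ∀ j, P →ₗ[T] Q j}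
    (θ : B →+* T) (f : M →+ P) (g : ∀ j, N j →+ Q j) (hf : Function.Injective f)
    (hfs : ∀ b m, f (b • m) = θ b • f m) (hgs : ∀ j b n, g j (b • n) = θ b • g j n)
    (hc : ∀ j m, g j (φ j m) = ψ j (f m)) (H : LocMSep ψ) : LocMSep φ := by
  intro h x hx
  obtain ⟨n, hn⟩ := H (θ h) (f x) fun j => by
    obtain ⟨n, hn⟩ := hx j
    refine ⟨n, ?_⟩
    have := congrArg (g j) hn
    rwa [map_zero, hgs, map_pow, hc] at this
  exact ⟨n, hf (by rw [hfs, map_pow, hn, map_zero])⟩

/-- Separation over an extension restricts. -/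
lemma LocMSep.restrict {A : Type u} [CommRing A] [Algebra A B] [Module A M] [IsScalarTower A B M]
    [∀ j, Module A (N j)] [∀ j, IsScalarTower A B (N j)] (H : LocMSep φ) :
    LocMSep fun j => (φ j).restrictScalars A :=
  H.of_semilinear (algebraMap A B) (AddMonoidHom.id M) (fun j => AddMonoidHom.id (N j)) Function.injective_id
    (fun a m => (algebraMap_smul B a m).symm) (fun _ a n => (algebraMap_smul B a n).symm) fun _ _ => rfl

/-- Separation of a base change can be read on any model of it. -/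
lemma locMSep_isBaseChange_iff {T T' : Type u} [CommRing T] [CommRing T'] [Algebra B T] [Algebra B T']
    (e : T ≃ₐ[B] T') {P : Type u} [AddCommGroup P] [Module B P] [Module T' P] [IsScalarTower B T' P]
    {Q : ι → Type u} [∀ j, AddCommGroup (Q j)] [∀ j, Module B (Q j)] [∀ j, Module T' (Q j)]
    [∀ j, IsScalarTower B T' (Q j)] {a : M →ₗ[B] P} (ha : IsBaseChange T' a)
    {b : ∀ j, N j →ₗ[B] Q j} (hb : ∀ j, IsBaseChange T' (b j)) (ψ : ∀ j, P →ₗ[T'] Q j)
    (hc : ∀ j m, ψ j (a m) = b j (φ j m)) :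
    LocMSep (fun j => (φ j).baseChange T) ↔ LocMSep ψ := by
  let f : T ⊗[B] M ≃+ P :=
    (TensorProduct.congr e.toLinearEquiv (LinearEquiv.refl B M)).toAddEquiv.trans ha.equiv.toAddEquiv
  let g : ∀ j, T ⊗[B] N j ≃+ Q j := fun j =>
    (TensorProduct.congr e.toLinearEquiv (LinearEquiv.refl B (N j))).toAddEquiv.trans (hb j).equiv.toAddEquiv
  have hft : ∀ t m, f (t ⊗ₜ m) = e t • a m := fun t m => ha.equiv_tmul _ _
  have hgt : ∀ j t m, g j (t ⊗ₜ m) = e t • b j m := fun j t m => (hb j).equiv_tmul _ _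
  have hfs : ∀ (t : T) z, f (t • z) = e t • f z := fun t z => by
    induction z with
    | zero => simp
    | tmul s m => rw [smul_tmul', hft, hft, smul_eq_mul, map_mul, mul_smul]
    | add x y hx hy => simp only [smul_add, map_add, hx, hy]
  have hgs : ∀ j (t : T) z, g j (t • z) = e t • g j z := fun j t z => by
    induction z with
    | zero => simp
    | tmul s m => rw [smul_tmul', hgt, hgt, smul_eq_mul, map_mul, mul_smul]
    | add x y hx hy => simp only [smul_add, map_add, hx, hy]
  have hn : ∀ j z, g j ((φ j).baseChange T z) = ψ j (f z) := fun j z => by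
    induction z with
    | zero => simp
    | tmul t m => rw [LinearMap.baseChange_tmul, hgt, hft, map_smul, hc]
    | add x y hx hy => simp only [map_add, hx, hy]
  constructor
  · refine LocMSep.of_semilinear (e.symm : T' →+* T) f.symm.toAddMonoidHom (fun j => (g j).symm.toAddMonoidHom)
      f.symm.injective (fun t p => f.injective ?_) (fun j t p => (g j).injective ?_) fun j p => (g j).injective ?_
    · simp [hfs]
    · simp [hgs]
    · simp [hn]
  · exact LocMSep.of_semilinear (e : T →+* T') f.toAddMonoidHom (fun j => (g j).toAddMonoidHom) f.injective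
      hfs hgs hn

end General

section Model

variable {B₀ : Type u} [CommRing B₀] {R₀ : Type u} [CommRing R₀] [Algebra B₀ R₀]
  {B : Type u} [CommRing B] [Algebra B₀ B] {M : Type u} [AddCommGroup M] [Module B M] [Module B₀ M]
  [IsScalarTower B₀ B M] {ι : Type w}
  {N : ι → Type u} [∀ j, AddCommGroup (N j)] [∀ j, Module B (N j)] [∀ j, Module B₀ (N j)]
  [∀ j, IsScalarTower B₀ B (N j)]

/-- The submodule killed by an ideal. -/
def killed (q : Ideal B₀) (P : Type u) [AddCommGroup P] [Module B P] [Module B₀ P]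
    [IsScalarTower B₀ B P] : Submodule B P where
  carrier := {x | ∀ a ∈ q, a • x = 0}
  add_mem' := fun hx hy a ha => by rw [smul_add, hx a ha, hy a ha, add_zero]
  zero_mem' := fun a _ => smul_zero a
  smul_mem' := fun b x hx a ha => by rw [smul_comm, hx a ha, smul_zero]

/-- Core of EGA IV 11.10.5 for modules, over a Noetherian coefficient ring. -/
theorem eq_zero_of_model [IsNoetherianRing B₀] [Algebra.FiniteType B₀ R₀] [Module.Flat B (B ⊗[B₀] R₀)]
    {φ : ∀ j, M →ₗ[B] N j} (H : LocMSep φ) (u : R₀ ⊗[B₀] M)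
    (hu : ∀ j, ((φ j).restrictScalars B₀).lTensor R₀ u = 0) : u = 0 := by
  by_contra hne
  let M₀ := Submodule.span B₀ {u}
  haveI : Nontrivial M₀ := nontrivial_of_ne (⟨u, Submodule.subset_span rfl⟩ : M₀) 0
    fun h => hne (Subtype.ext_iff.mp h)
  obtain ⟨q, hq⟩ := associatedPrimes.nonempty B₀ M₀
  obtain ⟨hqp, v, hv⟩ := (isAssociatedPrime_iff_exists_injective_linearMap q M₀).mp hq |>.imp id
    (fun ⟨f, hf⟩ => (⟨f 1, fun a => by
      rw [← map_smul, map_eq_zero_iff f hf, Algebra.smul_def, mul_one,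
        Ideal.Quotient.algebraMap_eq, Ideal.Quotient.eq_zero_iff_mem]⟩ :
      ∃ v : M₀, ∀ a : B₀, a • v = 0 ↔ a ∈ q))
  haveI := hqp
  obtain ⟨c, hc⟩ := Submodule.mem_span_singleton.mp v.2
  let u₁ : R₀ ⊗[B₀] M := (v : R₀ ⊗[B₀] M)
  have hu₁ : ∀ j, ((φ j).restrictScalars B₀).lTensor R₀ u₁ = 0 := fun j => by
    rw [show u₁ = c • u from hc.symm, map_smul, hu j, smul_zero]
  have hann : ∀ a : B₀, a • u₁ = 0 ↔ a ∈ q := fun a => by
    rw [← hv a]; exact (Subtype.ext_iff (a1 := a • v) (a2 := (0 : M₀))).symm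
  obtain ⟨s, hs⟩ := (IsNoetherian.noetherian q : q.FG)
  classical
  let P : M →ₗ[B] (s → M) := LinearMap.pi fun a => algebraMap B₀ B a.1 • LinearMap.id
  let M' : Submodule B M := LinearMap.ker P
  have hM' : ∀ a ∈ q, ∀ n : M', a • n = 0 := by
    intro a ha n
    refine (show q ≤ LinearMap.ker (LinearMap.toSpanSingleton B₀ M' n) from
      hs ▸ Submodule.span_le.mpr fun x hx => ?_) ha
    apply Subtype.ext
    have := congrFun (LinearMap.mem_ker.mp n.2) ⟨x, hx⟩
    simpa [P] using this
  have hψmem : ∀ j (n : M'), φ j n.1 ∈ killed (B := B) q (N j) := fun j n a ha => by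
    have h := congrArg (fun m : M' => ((φ j).restrictScalars B₀) (m : M)) (hM' a ha n)
    simpa using h
  let ψ : ∀ j, M' →ₗ[B] killed (B := B) q (N j) := fun j =>
    ((φ j).comp M'.subtype).codRestrict (killed (B := B) q (N j)) (hψmem j)
  obtain ⟨w, hw⟩ : u₁ ∈ Set.range ((M'.subtype.restrictScalars B₀).lTensor R₀) := by
    refine (((exact_lTensor_of_flat (B₀ := B₀) R₀ M'.subtype P).2
      (LinearMap.exact_subtype_ker_map P)) u₁).mp ((TensorProduct.piRight B₀ B₀ R₀ _).injective ?_)
    ext a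
    rw [map_zero, Pi.zero_apply]
    have : ∀ y : R₀ ⊗[B₀] M,
        TensorProduct.piRight B₀ B₀ R₀ _ ((P.restrictScalars B₀).lTensor R₀ y) a = a.1 • y := by
      intro y
      induction y with
      | zero => simp
      | tmul r b => rw [← TensorProduct.tmul_smul]; simp [P]
      | add x y hx hy => simp only [map_add, Pi.add_apply, hx, hy, smul_add]
    rw [this, hann]
    exact hs ▸ Submodule.subset_span a.2
  have hwj : ∀ j, ((ψ j).restrictScalars B₀).lTensor R₀ w = 0 := by
    intro j
    apply (exact_lTensor_of_flat (B₀ := B₀) R₀ (killed (B := B) q (N j)).subtype (0 : N j →ₗ[B] N j)).1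
      (Submodule.injective_subtype _)
    rw [map_zero, ← LinearMap.comp_apply, ← LinearMap.lTensor_comp]
    have : ((killed (B := B) q (N j)).subtype.restrictScalars B₀) ∘ₗ ((ψ j).restrictScalars B₀) =
        ((φ j).restrictScalars B₀) ∘ₗ (M'.subtype.restrictScalars B₀) := rfl
    rw [this, LinearMap.lTensor_comp, LinearMap.comp_apply, hw, hu₁ j]
  -- generic freeness
  obtain ⟨g, hg0, hfree, -⟩ := Groth.L20.GF.exists_free_and_nearlyFP (R := B₀ ⧸ q)
    (S := (B₀ ⧸ q) ⊗[B₀] R₀) ((B₀ ⧸ q) ⊗[B₀] R₀)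
  obtain ⟨g₀, rfl⟩ := Ideal.Quotient.mk_surjective g
  haveI := hfree
  haveI : Module.Free (Localization.Away (Ideal.Quotient.mk q g₀))
      (Localization.Away (Ideal.Quotient.mk q g₀) ⊗[B₀] R₀) :=
    Module.Free.of_equiv (TensorProduct.AlgebraTensorModule.cancelBaseChange B₀ (B₀ ⧸ q)
      (Localization.Away (Ideal.Quotient.mk q g₀)) (Localization.Away (Ideal.Quotient.mk q g₀)) R₀)
  obtain ⟨k, hk⟩ := eq_zero_of_generic_projective q g₀ R₀ hM'
    (N' := fun j => killed (B := B) q (N j)) (fun j a ha (n : killed (B := B) q (N j)) => Subtype.ext (n.2 a ha))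
    (fun j => (ψ j).restrictScalars B₀) (fun n hn => by
      obtain ⟨k, hk⟩ := H (algebraMap B₀ B g₀) n.1 fun j => by
        obtain ⟨k, hk⟩ := hn j
        refine ⟨k, ?_⟩
        have h1 := congrArg Subtype.val hk
        rw [← map_pow, algebraMap_smul]
        exact h1
      refine ⟨k, Subtype.ext ?_⟩
      rw [← map_pow, algebraMap_smul] at hk
      simpa using hk) w hwj
  have : g₀ ^ k • u₁ = 0 := by rw [← hw, ← map_smul, hk, map_zero]
  exact hg0 (Ideal.Quotient.eq_zero_iff_mem.mpr (hqp.mem_of_pow_mem k ((hann _).mp this)))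

end Model

section BaseChange

variable {B : Type u} [CommRing B] {M : Type u} [AddCommGroup M] [Module B M] {ι : Type w}
  {N : ι → Type u} [∀ j, AddCommGroup (N j)] [∀ j, Module B (N j)] {φ : ∀ j, M →ₗ[B] N j}

theorem eq_zero_of_model_equiv (H : LocMSep φ) {B₀ : Type u} [CommRing B₀] [IsNoetherianRing B₀] [Algebra B₀ B]
    {R₀ : Type u} [CommRing R₀] [Algebra B₀ R₀] [Algebra.FiniteType B₀ R₀]
    {B' : Type u} [CommRing B'] [Algebra B B'] [Module.Flat B B'] (e : B ⊗[B₀] R₀ ≃ₐ[B] B')
    (x : B' ⊗[B] M) (hx : ∀ j, (φ j).baseChange B' x = 0) : x = 0 := by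
  haveI : Module.Flat B (B ⊗[B₀] R₀) := Module.Flat.of_linearEquiv e.toLinearEquiv
  letI : Module B₀ M := Module.compHom M (algebraMap B₀ B)
  haveI : IsScalarTower B₀ B M := IsScalarTower.of_algebraMap_smul fun _ _ => rfl
  letI : ∀ j, Module B₀ (N j) := fun j => Module.compHom (N j) (algebraMap B₀ B)
  haveI : ∀ j, IsScalarTower B₀ B (N j) := fun j => IsScalarTower.of_algebraMap_smul fun _ _ => rfl
  let Θ : ∀ (P : Type u) [AddCommGroup P] [Module B P] [Module B₀ P] [IsScalarTower B₀ B P],
      B' ⊗[B] P ≃+ R₀ ⊗[B₀] P := fun P _ _ _ _ =>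
    ((TensorProduct.congr e.symm.toLinearEquiv (LinearEquiv.refl B P)).trans
        (TensorProduct.comm B (B ⊗[B₀] R₀) P)).toAddEquiv.trans
      ((TensorProduct.AlgebraTensorModule.cancelBaseChange B₀ B B P R₀).toAddEquiv.trans
        (TensorProduct.comm B₀ P R₀).toAddEquiv)
  have key : ∀ (j : ι) (y : B' ⊗[B] M),
      ((φ j).restrictScalars B₀).lTensor R₀ (Θ M y) = Θ (N j) ((φ j).baseChange B' y) := by
    intro j y
    induction y with
    | zero => simp
    | tmul b' m =>
      obtain ⟨z, rfl⟩ := e.surjective b'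
      induction z with
      | zero => simp
      | tmul b r => simp [Θ]
      | add a b ha hb => simp only [map_add, TensorProduct.add_tmul, ha, hb]
    | add a b ha hb => simp only [map_add, ha, hb]
  have hu0 : Θ M x = 0 := eq_zero_of_model H _ fun j => by rw [key, hx j, map_zero]
  exact (Θ M).injective (hu0.trans (map_zero _).symm)


/-- EGA IV 11.10.5: injectivity after a flat base change of finite presentation. -/
theorem LocMSep.tensor_eq_zero (H : LocMSep φ) {B' : Type u} [CommRing B'] [Algebra B B'] [Module.Flat B B']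
    [Algebra.FinitePresentation B B'] (x : B' ⊗[B] M) (hx : ∀ j, (φ j).baseChange B' x = 0) : x = 0 := by
  let Pr := Algebra.Presentation.ofFinitePresentation B B'
  let B₀ := Algebra.adjoin ℤ Pr.coeffs
  haveI : Pr.HasCoeffs B₀ := ⟨by simp [B₀]⟩
  haveI : Algebra.FiniteType ℤ B₀ :=
    (Subalgebra.fg_iff_finiteType B₀).mp ⟨Pr.finite_coeffs.toFinset, by simp [B₀]⟩
  haveI : IsNoetherianRing B₀ := Algebra.FiniteType.isNoetherianRing ℤ B₀
  exact eq_zero_of_model_equiv H (Pr.tensorModelOfHasCoeffsEquiv B₀) x hx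

/-- Separation of a base change from injectivity on all principal opens. -/
theorem locMSep_baseChange_of_away {T : Type u} [CommRing T] [Algebra B T]
    (H : ∀ (h : T) (y : Localization.Away h ⊗[B] M),
      (∀ j, (φ j).baseChange (Localization.Away h) y = 0) → y = 0) :
    LocMSep fun j => (φ j).baseChange T := by
  intro h x hx
  let Th := Localization.Away h
  let μ : ∀ (P : Type u) [AddCommGroup P] [Module B P], T ⊗[B] P →ₗ[T] Th ⊗[B] P := fun P _ _ =>
    (TensorProduct.AlgebraTensorModule.cancelBaseChange B T T Th P).toLinearMap ∘ₗ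
      TensorProduct.mk T Th (T ⊗[B] P) 1
  have hμ : ∀ j z, μ (N j) ((φ j).baseChange T z) = (φ j).baseChange Th (μ M z) := fun j z => by
    induction z with
    | zero => simp
    | tmul t m => simp [μ]
    | add a b ha hb => simp only [map_add, ha, hb]
  have h0 : μ M x = 0 := by
    refine H h _ fun j => ?_
    obtain ⟨n, hn⟩ := hx j
    have h1 := congrArg (μ (N j)) hn
    rw [map_zero, map_smul, hμ, ← algebraMap_smul Th (h ^ n)] at h1
    exact ((IsLocalization.map_units Th (⟨h ^ n, n, rfl⟩ : Submonoid.powers h)).smul_eq_zero).mp h1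
  haveI : IsLocalizedModule (Submonoid.powers h) (TensorProduct.mk T Th (T ⊗[B] M) 1) := inferInstance
  obtain ⟨⟨_, n, rfl⟩, hn⟩ := (IsLocalizedModule.eq_zero_iff (Submonoid.powers h)
    (TensorProduct.mk T Th (T ⊗[B] M) 1)).mp
    ((TensorProduct.AlgebraTensorModule.cancelBaseChange B T T Th M).injective
      (h0.trans (map_zero _).symm))
  exact ⟨n, hn⟩

/-- EGA IV 11.10.5 for modules. -/
theorem LocMSep.baseChange (H : LocMSep φ) (B' : Type u) [CommRing B'] [Algebra B B'] [Module.Flat B B']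
    [Algebra.FinitePresentation B B'] : LocMSep fun j => (φ j).baseChange B' := by
  refine locMSep_baseChange_of_away fun h y hy => ?_
  haveI : Algebra.FinitePresentation B' (Localization.Away h) := IsLocalization.Away.finitePresentation h
  haveI : Algebra.FinitePresentation B (Localization.Away h) := Algebra.FinitePresentation.trans B B' _
  haveI : Module.Flat B (Localization.Away h) := Module.Flat.trans B B' _
  exact H.tensor_eq_zero y hy

/-- EGA IV 11.10.7: over an Artinian ring, flat base change preserves joint injectivity. -/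
theorem locMSep_baseChange_artinian [IsArtinianRing B] (H : ∀ x, (∀ j, φ j x = 0) → x = 0)
    (T : Type u) [CommRing T] [Algebra B T] [Module.Flat B T] : LocMSep fun j => (φ j).baseChange T := by
  refine locMSep_baseChange_of_away fun h y hy => ?_
  haveI : Module.Flat B (Localization.Away h) := Module.Flat.trans B T _
  haveI : IsReduced (B ⧸ nilradical B) :=
    (Ideal.isRadical_iff_quotient_reduced _).mp (Ideal.radical_isRadical _)
  haveI : IsSemisimpleRing (B ⧸ nilradical B) := IsArtinianRing.isSemisimpleRing_of_isReduced _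
  haveI : Module.Projective (B ⧸ nilradical B) ((B ⧸ nilradical B) ⊗[B] Localization.Away h) :=
    Module.projective_of_isSemisimpleRing _ _
  haveI : Module.Projective B (Localization.Away h) :=
    L02.CAlg.TorV.projective_of_mod_nilpotent (I := nilradical B) (IsNoetherianRing.isNilpotent_nilradical B) _
  have h0 : LSep (LinearMap.id : M →ₗ[B] M) (fun _ => LinearMap.id) φ := lSep_id_iff.mpr H
  have h1 := h0.lTensor_projective (Localization.Away h)
  simp only [LinearMap.lTensor_id] at h1
  rw [lSep_id_iff] at h1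
  exact h1 y hy

end BaseChange

section Subalgebra

variable {A A' : Type u} [CommRing A] [CommRing A'] [Algebra A A']

/-- A tensor comes from a finitely generated subalgebra. -/
lemma exists_fg_lift {P : Type u} [AddCommGroup P] [Module A P] (z : P ⊗[A] A') :
    ∃ A₀ : Subalgebra A A', A₀.FG ∧
      ∀ A₁ : Subalgebra A A', A₀ ≤ A₁ → ∃ z₁ : P ⊗[A] A₁, A₁.val.toLinearMap.lTensor P z₁ = z := by
  classical
  induction z with
  | zero => exact ⟨⊥, Subalgebra.fg_bot, fun A₁ _ => ⟨0, map_zero _⟩⟩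
  | tmul p a =>
    refine ⟨Algebra.adjoin A (({a} : Finset A') : Set A'), Subalgebra.fg_adjoin_finset _, fun A₁ hle =>
      ⟨p ⊗ₜ ⟨a, hle (Algebra.subset_adjoin (by simp))⟩, ?_⟩⟩
    simp
  | add x y hx hy =>
    obtain ⟨A₀, h₀, hx⟩ := hx
    obtain ⟨A₀', h₀', hy⟩ := hy
    refine ⟨A₀ ⊔ A₀', h₀.sup h₀', fun A₁ hle => ?_⟩
    obtain ⟨x₁, rfl⟩ := hx A₁ (le_sup_left.trans hle)
    obtain ⟨y₁, rfl⟩ := hy A₁ (le_sup_right.trans hle)
    exact ⟨x₁ + y₁, map_add _ _ _⟩

variable {B : Type u} [CommRing B] [Algebra A B]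

/-- The two forms of the base change of a module. -/
noncomputable def bcEquiv (A' : Type u) [CommRing A'] [Algebra A A'] (P : Type u) [AddCommGroup P] [Module B P]
    [Module A P] [IsScalarTower A B P] : (B ⊗[A] A') ⊗[B] P ≃ₗ[B] P ⊗[A] A' :=
  (TensorProduct.comm B (B ⊗[A] A') P).trans
    (TensorProduct.AlgebraTensorModule.cancelBaseChange A B B P A')

@[simp] lemma bcEquiv_tmul {P : Type u} [AddCommGroup P] [Module B P]
    [Module A P] [IsScalarTower A B P] (b : B) (a : A') (p : P) :
    bcEquiv A' P ((b ⊗ₜ[A] a) ⊗ₜ[B] p) = (b • p) ⊗ₜ a := by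
  simp [bcEquiv, smul_tmul']

variable {M : Type u} [AddCommGroup M] [Module B M] [Module A M] [IsScalarTower A B M] {ι : Type w}
  {N : ι → Type u} [∀ j, AddCommGroup (N j)] [∀ j, Module B (N j)] [∀ j, Module A (N j)]
  [∀ j, IsScalarTower A B (N j)] {φ : ∀ j, M →ₗ[B] N j}

lemma bcEquiv_natural (j : ι) (z : (B ⊗[A] A') ⊗[B] M) :
    bcEquiv A' (N j) ((φ j).baseChange (B ⊗[A] A') z) = ((φ j).restrictScalars A).rTensor A' (bcEquiv A' M z) := by
  induction z with
  | zero => simp
  | tmul t m =>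
    induction t with
    | zero => simp
    | tmul b a => simp
    | add x y hx hy => simp only [TensorProduct.add_tmul, map_add, hx, hy]
  | add x y hx hy => simp only [map_add, hx, hy]

/-- For flat targets, separation over the finitely generated subalgebras gives separation. -/
theorem locMSep_of_fg [∀ j, Module.Flat A (N j)]
    (H : ∀ A₀ : Subalgebra A A', A₀.FG → LocMSep fun j => (φ j).baseChange (B ⊗[A] A₀)) :
    LocMSep fun j => (φ j).baseChange (B ⊗[A] A') := by
  intro h x hx
  obtain ⟨A₁, hfg₁, hh⟩ := exists_fg_lift h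
  obtain ⟨A₂, hfg₂, hxl⟩ := exists_fg_lift (bcEquiv A' M x)
  let A₀ := A₁ ⊔ A₂
  obtain ⟨h₀, hh₀⟩ := hh A₀ le_sup_left
  obtain ⟨z₀, hz₀⟩ := hxl A₀ le_sup_right
  let θ : B ⊗[A] A₀ →ₐ[B] B ⊗[A] A' := Algebra.TensorProduct.map (AlgHom.id B B) A₀.val
  let ν : ∀ (P : Type u) [AddCommGroup P] [Module B P], (B ⊗[A] A₀) ⊗[B] P →ₗ[B] (B ⊗[A] A') ⊗[B] P :=
    fun P _ _ => θ.toLinearMap.rTensor P
  have hνs : ∀ (P : Type u) [AddCommGroup P] [Module B P] (t : B ⊗[A] A₀) z,
      ν P (t • z) = θ t • ν P z := fun P _ _ t z => by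
    induction z with
    | zero => simp
    | tmul s p => simp [ν, smul_tmul']
    | add a b ha hb => simp only [smul_add, map_add, ha, hb]
  have hνb : ∀ (P : Type u) [AddCommGroup P] [Module B P] [Module A P] [IsScalarTower A B P] z,
      bcEquiv A' P (ν P z) = A₀.val.toLinearMap.lTensor P (bcEquiv A₀ P z) := fun P _ _ _ _ z => by
    induction z with
    | zero => simp
    | tmul t p =>
      induction t with
      | zero => simp
      | tmul b a => simp [ν, θ]
      | add a b ha hb => simp only [TensorProduct.add_tmul, map_add, ha, hb]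
    | add a b ha hb => simp only [map_add, ha, hb]
  have hνn : ∀ j z, ν (N j) ((φ j).baseChange (B ⊗[A] A₀) z) = (φ j).baseChange (B ⊗[A] A') (ν M z) :=
    fun j z => by
    induction z with
    | zero => simp
    | tmul t p => simp [ν]
    | add a b ha hb => simp only [map_add, ha, hb]
  have hinj : ∀ j, Function.Injective (ν (N j)) := fun j a b hab => by
    refine (bcEquiv A₀ (N j)).injective
      (Module.Flat.lTensor_preserves_injective_linearMap A₀.val.toLinearMap Subtype.val_injective ?_)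
    rw [← hνb, ← hνb, hab]
  let x₀ : (B ⊗[A] A₀) ⊗[B] M := (bcEquiv (B := B) A₀ M).symm z₀
  have hx₀ : ν M x₀ = x := (bcEquiv A' M).injective (by rw [hνb, LinearEquiv.apply_symm_apply, hz₀])
  have hθ : θ h₀ = h := by
    rw [← hh₀]
    clear hh₀ hx
    induction h₀ with
    | zero => simp
    | tmul b a => simp [θ]
    | add a b ha hb => simp only [map_add, ha, hb]
  obtain ⟨n, hn⟩ := H A₀ (hfg₁.sup hfg₂) h₀ x₀ fun j => by
    obtain ⟨n, hn⟩ := hx j
    refine ⟨n, hinj j ?_⟩
    rw [hνs, map_pow, hθ, hνn, hx₀, hn, map_zero]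
  refine ⟨n, ?_⟩
  have := congrArg (ν M) hn
  rwa [map_zero, hνs, map_pow, hθ, hx₀] at this

/-- EGA IV 11.10.6: over a field separation survives every base change. -/
theorem LocMSep.baseChange_field {k B : Type u} [Field k] [CommRing B] [Algebra k B]
    {M : Type u} [AddCommGroup M] [Module B M] [Module k M] [IsScalarTower k B M]
    {N : ι → Type u} [∀ j, AddCommGroup (N j)] [∀ j, Module B (N j)] [∀ j, Module k (N j)]
    [∀ j, IsScalarTower k B (N j)] {φ : ∀ j, M →ₗ[B] N j} (H : LocMSep φ)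
    (K : Type u) [CommRing K] [Algebra k K] : LocMSep fun j => (φ j).baseChange (B ⊗[k] K) := by
  refine locMSep_of_fg fun A₀ hfg => ?_
  haveI : Algebra.FiniteType k A₀ := (Subalgebra.fg_iff_finiteType A₀).mp hfg
  haveI : Algebra.FinitePresentation k A₀ := Algebra.FinitePresentation.of_finiteType.mp inferInstance
  haveI : Algebra.FinitePresentation B (B ⊗[k] A₀) := Algebra.FinitePresentation.baseChange B
  exact H.baseChange _

/-- EGA IV 11.10.8: separation lifts along a nilpotent ideal with free graded quotients. -/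
theorem eq_zero_of_nilpotent [∀ j, Module.Flat A (N j)] (J : Ideal A) (hJ : IsNilpotent J)
    (hproj : ∀ n : ℕ, Module.Projective (A ⧸ J) ((A ⧸ J) ⊗[A] ↥(J ^ n)))
    (H : ∀ y : (B ⊗[A] (A ⧸ J)) ⊗[B] M, (∀ j, (φ j).baseChange (B ⊗[A] (A ⧸ J)) y = 0) → y = 0)
    (x : M) (hx : ∀ j, φ j x = 0) : x = 0 := by
  obtain ⟨N₀, hN₀⟩ := hJ
  have Hy : ∀ y : (A ⧸ J) ⊗[A] M,
      (∀ j, ∃ m : ℕ, ((LinearMap.id : N j →ₗ[A] N j) ^ m).baseChange (A ⧸ J)
        (((φ j).restrictScalars A).baseChange (A ⧸ J) y) = 0) → y = 0 := fun y hy => by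
    let c : (A ⧸ J) ⊗[A] M ≃+ (B ⊗[A] (A ⧸ J)) ⊗[B] M :=
      (TensorProduct.comm A (A ⧸ J) M).toAddEquiv.trans (bcEquiv (A ⧸ J) M).symm.toAddEquiv
    have hc : c y = 0 := H _ fun j => (bcEquiv (A ⧸ J) (N j)).injective <| by
      obtain ⟨n, hn⟩ := hy j
      rw [bcEquiv_natural, map_zero]
      change ((φ j).restrictScalars A).rTensor (A ⧸ J)
        (bcEquiv (A ⧸ J) M ((bcEquiv (A ⧸ J) M).symm (TensorProduct.comm A (A ⧸ J) M y))) = 0
      rw [LinearEquiv.apply_symm_apply]
      have h1 : ∀ z : (A ⧸ J) ⊗[A] M, ((φ j).restrictScalars A).rTensor (A ⧸ J) (TensorProduct.comm A _ _ z) =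
          TensorProduct.comm A _ _ (((φ j).restrictScalars A).baseChange (A ⧸ J) z) := fun z => by
        induction z with
        | zero => simp
        | tmul a m => simp
        | add a b ha hb => simp only [map_add, ha, hb]
      rw [← Module.End.one_eq_id, one_pow, Module.End.one_eq_id, LinearMap.baseChange_id, LinearMap.id_apply] at hn
      rw [h1, hn, map_zero]
    exact c.injective (hc.trans (map_zero _).symm)
  obtain ⟨m, hm⟩ := mem_pow_smul_top J (LinearMap.id : M →ₗ[A] M) (fun _ => LinearMap.id)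
    (fun j => (φ j).restrictScalars A) (fun _ _ => rfl) hproj
    (fun y hy => ⟨0, by rw [Hy y hy, map_zero]⟩) x (fun j => ⟨0, by simp [hx j]⟩) N₀
  rw [hN₀, Submodule.zero_eq_bot, Submodule.bot_smul, Submodule.mem_bot] at hm
  simpa [← Module.End.one_eq_id] using hm

end Subalgebra

end Groth.L07.ModSep
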