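import Groth.Agent.L07.ModSep.Scheme

/-!
# Separating families: finite families and faithfully flat descent
-/

universe u w

open CategoryTheory Limits AlgebraicGeometry TopologicalSpace Opposite
open scoped TensorProduct

namespace Groth.L07.ModSep

set_option maxSynthPendingDepth 3
set_option linter.style.haveILetI false
set_option backward.isDefEq.respectTransparency.types false
set_option backward.isDefEq.respectTransparency false

section Alg

variable {B : Type u} [CommRing B] {M : Type u} [AddCommGroup M] [Module B M] {ι : Type w}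
  {N : ι → Type u} [∀ j, AddCommGroup (N j)] [∀ j, Module B (N j)] {φ : ∀ j, M →ₗ[B] N j}

/-- A finite jointly injective family stays so after a flat base change. -/
theorem locMSep_baseChange_finite [Finite ι] (H : ∀ x, (∀ j, φ j x = 0) → x = 0)
    (T : Type u) [CommRing T] [Algebra B T] [Module.Flat B T] : LocMSep fun j => (φ j).baseChange T := by
  classical
  haveI := Fintype.ofFinite ι
  refine locMSep_baseChange_of_away fun h y hy => ?_
  haveI : Module.Flat B (Localization.Away h) := Module.Flat.trans B T _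
  have hinj : Function.Injective (LinearMap.pi φ) := by
    rw [injective_iff_map_eq_zero]
    exact fun x hx => H x fun j => congr_fun hx j
  apply Module.Flat.lTensor_preserves_injective_linearMap (M := Localization.Away h) _ hinj
  apply (TensorProduct.piRight B B (Localization.Away h) N).injective
  rw [map_zero, map_zero]
  ext j
  have : ∀ z : Localization.Away h ⊗[B] M,
      TensorProduct.piRight B B (Localization.Away h) N ((LinearMap.pi φ).lTensor (Localization.Away h) z) j =
        (φ j).baseChange (Localization.Away h) z := by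
    intro z
    induction z with
    | zero => simp
    | tmul t m => simp
    | add a b ha hb => simp only [map_add, Pi.add_apply, ha, hb]
  rw [this, hy j, Pi.zero_apply]

/-- An element killed in a flat extension is killed outside the image of its spectrum. -/
theorem exists_smul_eq_zero_of_tmul {T : Type u} [CommRing T] [Algebra B T] [Module.Flat B T] {s : M}
    (h : (1 : T) ⊗ₜ[B] s = 0) (q : Ideal T) [q.IsPrime] :
    ∃ b, b ∉ q.comap (algebraMap B T) ∧ b • s = 0 := by
  by_contra hc
  push Not at hc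
  let I : Ideal B := LinearMap.ker (LinearMap.toSpanSingleton B M s)
  have hI : I ≤ q.comap (algebraMap B T) := fun b hb => by
    by_contra hn
    exact hc b hn hb
  let j : (B ⧸ I) →ₗ[B] M := I.liftQ (LinearMap.toSpanSingleton B M s) le_rfl
  have hj : Function.Injective j := LinearMap.ker_eq_bot.mp (Submodule.ker_liftQ_eq_bot _ _ _ le_rfl)
  have h1 : (1 : T) ⊗ₜ[B] (1 : B ⧸ I) = 0 := by
    apply Module.Flat.lTensor_preserves_injective_linearMap (M := T) j hj
    rw [map_zero, LinearMap.lTensor_tmul]
    rw [show j (1 : B ⧸ I) = s from (Submodule.liftQ_apply _ _ (1 : B)).trans (by simp), h]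
  let q' : (B ⧸ I) →ₗ[B] T ⧸ q := I.liftQ (Algebra.linearMap B (T ⧸ q)) fun b hb =>
    LinearMap.mem_ker.mpr (Ideal.Quotient.eq_zero_iff_mem.mpr (hI hb))
  have h2 := congrArg (TensorProduct.lift
    ((LinearMap.mul B (T ⧸ q)).compl₁₂ (Ideal.Quotient.mkₐ B q).toLinearMap q')) h1
  rw [map_zero, TensorProduct.lift.tmul, LinearMap.compl₁₂_apply] at h2
  refine Ideal.IsPrime.ne_top ‹_› ((Ideal.eq_top_iff_one q).mpr (Ideal.Quotient.eq_zero_iff_mem.mp ?_))
  refine Eq.trans ?_ h2
  have h3 : q' (1 : B ⧸ I) = 1 := (Submodule.liftQ_apply _ _ (1 : B)).trans (map_one (algebraMap B (T ⧸ q)))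
  rw [h3]
  simp

end Alg

variable {X : Scheme.{u}} {F : X.Modules} {ι : Type u} {G : ι → X.Modules}

/-- Separation descends along flat surjective morphisms. -/
theorem msep_of_pullback {X' : Scheme.{u}} (g : X' ⟶ X) [Flat g] [Surjective g] [Coh.IsQCoh F] (u : ∀ i, F ⟶ G i)
    (h : MSep fun i => (Scheme.Modules.pullback g).map (u i)) : MSep u := by
  refine msep_of_injective u fun V hV s hs => ?_
  refine TopCat.Presheaf.section_ext
    (⟨F.presheaf, F.isSheaf⟩ : TopCat.Sheaf Ab X.toTopCat) _ _ _ fun y hy => ?_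
  show F.presheaf.germ V y hy s = F.presheaf.germ V y hy 0
  rw [map_zero]
  obtain ⟨y', rfl⟩ := g.surjective y
  obtain ⟨_, ⟨U, hU, rfl⟩, hyU, hUV⟩ :=
    X'.isBasis_affineOpens.exists_subset_of_mem_open (a := y') (show y' ∈ g ⁻¹ᵁ V from hy) (g ⁻¹ᵁ V).2
  letI : Algebra Γ(X, V) Γ(X', U) := (g.appLE V U hUV).hom.toAlgebra
  haveI : Module.Flat Γ(X, V) Γ(X', U) := g.flat_appLE hV hU hUV
  letI := Module.compHom Γ((Scheme.Modules.pullback g).obj F, U) (g.appLE V U hUV).hom
  haveI : IsScalarTower Γ(X, V) Γ(X', U) Γ((Scheme.Modules.pullback g).obj F, U) :=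
    IsScalarTower.of_algebraMap_smul fun _ _ => rfl
  have h0 : Groth.L16.AffineBC.pullRes g F hUV s = 0 := h U _ fun i => by
    show ((Scheme.Modules.pullback g).map (u i)).app U _ = 0
    refine (pullRes_natural g (u i) hUV s).trans ?_
    rw [hs i]
    exact map_zero (Groth.L16.AffineBC.pullRes g (G i) hUV)
  have h1 : (1 : Γ(X', U)) ⊗ₜ[Γ(X, V)] s = 0 :=
    (Groth.L16.AffineBC.isBaseChange_pull g F hV hU hUV).equiv.injective (by
      rw [IsBaseChange.equiv_tmul, one_smul, map_zero, h0])
  obtain ⟨b, hb, hbs⟩ := exists_smul_eq_zero_of_tmul h1 (hU.primeIdealOf ⟨y', hyU⟩).asIdeal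
  have hc : (hU.primeIdealOf ⟨y', hyU⟩).asIdeal.comap (algebraMap Γ(X, V) Γ(X', U)) =
      (hV.primeIdealOf ⟨g y', hy⟩).asIdeal :=
    congrArg PrimeSpectrum.asIdeal (IsAffineOpen.comap_primeIdealOf_appLE V hV U hU hUV hyU)
  rw [hc] at hb
  letI := Groth.L20.ModStalk.stalkModule F hy
  haveI := Groth.L20.ModStalk.isLocalizedModule_germ F hV hy
  exact (IsLocalizedModule.eq_zero_iff (hV.primeIdealOf ⟨g y', hy⟩).asIdeal.primeCompl
    (Groth.L20.ModStalk.germₗ F hy)).mpr ⟨⟨b, hb⟩, hbs⟩

end Groth.L07.ModSep
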