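import Groth.Agent.L07.ModSep.Alg
import Mathlib.RingTheory.Filtration
import Mathlib.RingTheory.Finiteness.Descent

/-!
# The fibrewise criterion for separating families of module maps (EGA IV 11.10.9)
-/

universe u w

namespace Groth.L07.ModSep

open TensorProduct
open Groth.L02.SchDom

set_option maxSynthPendingDepth 3
set_option linter.style.haveILetI false

variable {A B : Type u} [CommRing A] [CommRing B] [Algebra A B]
  {M : Type u} [AddCommGroup M] [Module B M] [Module A M] [IsScalarTower A B M] {ι : Type w}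
  {N : ι → Type u} [∀ j, AddCommGroup (N j)] [∀ j, Module B (N j)] [∀ j, Module A (N j)]
  [∀ j, IsScalarTower A B (N j)] {φ : ∀ j, M →ₗ[B] N j}

omit [Module A M] [IsScalarTower A B M] [∀ j, Module A (N j)] [∀ j, IsScalarTower A B (N j)] in
/-- Separation descends along a field extension. -/
theorem locMSep_descend_field {k K : Type u} [Field k] [Field K] [Algebra A k] [Algebra A K] [Algebra k K]
    [IsScalarTower A k K] (H : LocMSep fun j => (φ j).baseChange (B ⊗[A] K)) :
    LocMSep fun j => (φ j).baseChange (B ⊗[A] k) := by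
  obtain ⟨r, hr⟩ := (Algebra.linearMap k K).exists_leftInverse_of_injective
    (LinearMap.ker_eq_bot.mpr (algebraMap k K).injective)
  let θ : B ⊗[A] k →ₐ[B] B ⊗[A] K :=
    Algebra.TensorProduct.map (AlgHom.id B B) (IsScalarTower.toAlgHom A k K)
  let s : B ⊗[A] K →ₗ[B] B ⊗[A] k :=
    TensorProduct.AlgebraTensorModule.map LinearMap.id (r.restrictScalars A)
  have hs : ∀ z, s (θ z) = z := fun z => by
    induction z with
    | zero => simp
    | tmul b c =>
      have h : r (algebraMap k K c) = c := LinearMap.congr_fun hr c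
      simp [s, θ, h]
    | add x y hx hy => simp only [map_add, hx, hy]
  refine H.of_semilinear θ.toRingHom (θ.toLinearMap.rTensor M).toAddMonoidHom
    (fun j => (θ.toLinearMap.rTensor (N j)).toAddMonoidHom) ?_ (fun t m => ?_) (fun j t m => ?_) fun j m => ?_
  · refine Function.LeftInverse.injective (g := s.rTensor M) fun z => ?_
    show s.rTensor M (θ.toLinearMap.rTensor M z) = z
    rw [← LinearMap.comp_apply, ← LinearMap.rTensor_comp,
      show s ∘ₗ θ.toLinearMap = LinearMap.id from LinearMap.ext hs, LinearMap.rTensor_id, LinearMap.id_apply]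
  · show θ.toLinearMap.rTensor M (t • m) = θ t • θ.toLinearMap.rTensor M m
    induction m with
    | zero => simp
    | tmul s p => simp [smul_tmul']
    | add a b ha hb => simp only [smul_add, map_add, ha, hb]
  · show θ.toLinearMap.rTensor (N j) (t • m) = θ t • θ.toLinearMap.rTensor (N j) m
    induction m with
    | zero => simp
    | tmul s p => simp [smul_tmul']
    | add a b ha hb => simp only [smul_add, map_add, ha, hb]
  · show θ.toLinearMap.rTensor (N j) ((φ j).baseChange (B ⊗[A] k) m) =
      (φ j).baseChange (B ⊗[A] K) (θ.toLinearMap.rTensor M m)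
    induction m with
    | zero => simp
    | tmul s p => simp
    | add a b ha hb => simp only [map_add, ha, hb]

/-- Fibrewise separation implies separation. -/
theorem locMSep_of_fibrewise [IsNoetherianRing B] [Module.Finite B M] [∀ j, Module.Flat A (N j)]
    (H : ∀ (p : Ideal A) [p.IsPrime],
      LocMSep fun j => TensorProduct.AlgebraTensorModule.rTensor A p.ResidueField (φ j)) :
    LocMSep φ := by
  intro g x hx
  let I : Ideal B := LinearMap.ker (LinearMap.toSpanSingleton B M x)
  suffices g ∈ I.radical from this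
  rw [Ideal.radical_eq_sInf, Ideal.mem_sInf]
  rintro Q ⟨hIQ, hQ⟩
  by_contra hgQ
  haveI := hQ
  let p := Q.under A
  let Ap := Localization.AtPrime p
  let BQ := Localization.AtPrime Q
  let lh : Ap →+* BQ := Localization.localRingHom p Q (algebraMap A B) rfl
  let MQ := LocalizedModule Q.primeCompl M
  let ℓ : M →ₗ[B] MQ := LocalizedModule.mkLinearMap Q.primeCompl M
  letI modMQ : Module Ap MQ := Module.compHom MQ lh
  haveI : IsScalarTower A Ap MQ := IsScalarTower.of_algebraMap_smul fun r m => by
    show lh (algebraMap A Ap r) • m = r • m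
    rw [Localization.localRingHom_to_map, ← IsScalarTower.algebraMap_smul B r m,
      ← IsScalarTower.algebraMap_smul BQ (algebraMap A B r) m]
  let J := IsLocalRing.maximalIdeal Ap
  have hproj : ∀ n, Module.Projective (Ap ⧸ J) ((Ap ⧸ J) ⊗[Ap] ↥(J ^ n)) := fun n =>
    @Module.Projective.of_free _ _ _ _ _ (by letI := Ideal.Quotient.field J; infer_instance)
  let sg : ∀ (P : Type u) [AddCommGroup P] [Module B P] [Module A P] [IsScalarTower A B P],
      Ap ⊗[A] P →ₗ[Ap] Ap ⊗[A] P := fun P _ _ _ _ =>
    ((LinearMap.lsmul B P g).restrictScalars A).baseChange Ap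
  have hsg : ∀ (P : Type u) [AddCommGroup P] [Module B P] [Module A P] [IsScalarTower A B P] (m : ℕ) (a : Ap)
      (q : P), (sg P ^ m) (a ⊗ₜ q) = a ⊗ₜ (g ^ m • q) := fun P _ _ _ _ m => by
    induction m with
    | zero => simp
    | succ m ih => intro a q; rw [pow_succ', Module.End.mul_apply, ih, pow_succ', mul_smul]; simp [sg, smul_comm g]
  let φ' : ∀ j, Ap ⊗[A] M →ₗ[Ap] Ap ⊗[A] N j := fun j => ((φ j).restrictScalars A).baseChange Ap
  have hcomp : ∀ j z, φ' j (sg M z) = sg (N j) (φ' j z) := fun j z => by
    induction z with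
    | zero => simp
    | tmul a q => simp [φ', sg]
    | add a b ha hb => simp only [map_add, ha, hb]
  have Hy : ∀ y : (Ap ⧸ J) ⊗[Ap] (Ap ⊗[A] M),
      (∀ j, ∃ m : ℕ, (sg (N j) ^ m).baseChange (Ap ⧸ J) ((φ' j).baseChange (Ap ⧸ J) y) = 0) →
      ∃ m : ℕ, (sg M ^ m).baseChange (Ap ⧸ J) y = 0 := by
    intro y hy
    let c : ∀ (P : Type u) [AddCommGroup P] [Module B P] [Module A P] [IsScalarTower A B P],
        (Ap ⧸ J) ⊗[Ap] (Ap ⊗[A] P) ≃+ P ⊗[A] p.ResidueField := fun P _ _ _ _ =>
      (TensorProduct.AlgebraTensorModule.cancelBaseChange A Ap Ap (Ap ⧸ J) P).toAddEquiv.trans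
        (TensorProduct.comm A p.ResidueField P).toAddEquiv
    have hcg : ∀ (P : Type u) [AddCommGroup P] [Module B P] [Module A P] [IsScalarTower A B P] (m : ℕ) z,
        c P ((sg P ^ m).baseChange (Ap ⧸ J) z) = g ^ m • c P z := fun P _ _ _ _ m z => by
      induction z with
      | zero => simp
      | tmul s w =>
        induction w with
        | zero => simp
        | tmul a q => rw [LinearMap.baseChange_tmul, hsg]; simp [c, smul_tmul']; rfl
        | add a b ha hb => simp only [TensorProduct.tmul_add, map_add, smul_add, ha, hb]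
      | add a b ha hb => simp only [map_add, smul_add, ha, hb]
    have hcn : ∀ j z, c (N j) ((φ' j).baseChange (Ap ⧸ J) z) =
        TensorProduct.AlgebraTensorModule.rTensor A p.ResidueField (φ j) (c M z) := fun j z => by
      induction z with
      | zero => simp
      | tmul s w =>
        induction w with
        | zero => simp
        | tmul a q => simp [c, φ']; rfl
        | add a b ha hb => simp only [TensorProduct.tmul_add, map_add, ha, hb]
      | add a b ha hb => simp only [map_add, ha, hb]
    obtain ⟨m, hm⟩ := H p g (c M y) fun j => by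
      obtain ⟨m, hm⟩ := hy j
      refine ⟨m, ?_⟩
      rw [← hcn, ← hcg, hm, map_zero]
    exact ⟨m, (c M).injective (by rw [hcg, hm, map_zero])⟩
  have hmem : ∀ n, ℓ x ∈ (IsLocalRing.maximalIdeal BQ ^ n) • (⊤ : Submodule BQ MQ) := by
    intro n
    obtain ⟨m, hm⟩ := mem_pow_smul_top J (sg M) (fun j => sg (N j)) φ' hcomp hproj Hy (1 ⊗ₜ x) (fun j => by
      obtain ⟨m, hm⟩ := hx j
      exact ⟨m, by simp only [φ', LinearMap.baseChange_tmul, hsg, LinearMap.coe_restrictScalars, hm,
        TensorProduct.tmul_zero]⟩) n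
    let χ : Ap ⊗[A] M →ₗ[Ap] MQ := (ℓ.restrictScalars A).liftBaseChange Ap
    have hle : J.map lh ≤ IsLocalRing.maximalIdeal BQ := by
      haveI : IsLocalHom lh := Localization.isLocalHom_localRingHom p Q _ rfl
      exact ((IsLocalRing.local_hom_TFAE lh).out 0 2 rfl rfl).mp ‹IsLocalHom lh›
    have hmap : ∀ z ∈ (J ^ n) • (⊤ : Submodule Ap (Ap ⊗[A] M)),
        χ z ∈ (IsLocalRing.maximalIdeal BQ ^ n) • (⊤ : Submodule BQ MQ) := by
      intro z hz
      refine Submodule.smul_induction_on hz (fun a ha b _ => ?_) fun a b ha hb => ?_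
      · rw [map_smul]
        show lh a • χ b ∈ _
        exact Submodule.smul_mem_smul
          (Ideal.pow_right_mono hle n (Ideal.map_pow lh J n ▸ Ideal.mem_map_of_mem _ ha)) trivial
      · rw [map_add]; exact add_mem ha hb
    have h1 := hmap _ hm
    rw [hsg, LinearMap.liftBaseChange_tmul, one_smul, LinearMap.coe_restrictScalars, map_smul,
      ← algebraMap_smul BQ (g ^ m)] at h1
    have hu : IsUnit (algebraMap B BQ (g ^ m)) :=
      IsLocalization.map_units BQ (⟨g ^ m, pow_mem hgQ m⟩ : Q.primeCompl)
    exact (Submodule.smul_mem_iff_of_isUnit _ hu).mp h1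
  have hzero : ℓ x = 0 := by
    haveI : IsNoetherianRing BQ := IsLocalization.isNoetherianRing Q.primeCompl BQ inferInstance
    haveI : Module.Finite BQ MQ := Module.Finite.of_isLocalizedModule Q.primeCompl ℓ
    have h2 : ℓ x ∈ (⨅ n, IsLocalRing.maximalIdeal BQ ^ n • (⊤ : Submodule BQ MQ)) :=
      (Submodule.mem_iInf _).mpr hmem
    rwa [Ideal.iInf_pow_smul_eq_bot_of_isLocalRing _ (IsLocalRing.maximalIdeal.isMaximal BQ).ne_top,
      Submodule.mem_bot] at h2
  obtain ⟨⟨t, ht⟩, h3⟩ := (IsLocalizedModule.eq_zero_iff Q.primeCompl ℓ).mp hzero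
  exact ht (hIQ (show t ∈ I by simpa [I] using h3))

omit [Module A M] [IsScalarTower A B M] [∀ j, Module A (N j)] [∀ j, IsScalarTower A B (N j)] in
/-- Separation extends along a field extension. -/
theorem locMSep_extend_field {k : Type u} [Field k] [Algebra A k]
    (H : LocMSep fun j => (φ j).baseChange (B ⊗[A] k)) (K : Type u) [CommRing K] [Algebra A K] [Algebra k K]
    [IsScalarTower A k K] : LocMSep fun j => (φ j).baseChange (B ⊗[A] K) := by
  let T := B ⊗[A] k
  letI : Algebra k T := Algebra.TensorProduct.rightAlgebra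
  haveI : SMulCommClass B k T := ⟨fun b a z => by simp only [Algebra.smul_def]; ring⟩
  haveI : IsScalarTower A k T := IsScalarTower.of_algebraMap_eq fun r => by
    show algebraMap A T r = 1 ⊗ₜ algebraMap A k r
    exact ((Algebra.TensorProduct.includeRight (R := A) (A := B) (B := k)).commutes r).symm
  have h1 := H.baseChange_field (k := k) K
  let T₂ := T ⊗[k] K
  let θ : B ⊗[A] K →ₐ[B] T₂ := Algebra.TensorProduct.lift (Algebra.ofId B _)
    ((Algebra.TensorProduct.includeRight : K →ₐ[k] T₂).restrictScalars A) fun _ _ => Commute.all _ _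
  letI : Algebra k (B ⊗[A] K) :=
    ((Algebra.TensorProduct.includeRight : K →ₐ[A] B ⊗[A] K).toRingHom.comp (algebraMap k K)).toAlgebra
  let eT : T →ₐ[k] B ⊗[A] K :=
    { (Algebra.TensorProduct.map (AlgHom.id A B) (IsScalarTower.toAlgHom A k K)).toRingHom with
      commutes' := fun c => by
        show Algebra.TensorProduct.map (AlgHom.id A B) (IsScalarTower.toAlgHom A k K) ((1 : B) ⊗ₜ c) = _
        simp [RingHom.algebraMap_toAlgebra] }
  let eK : K →ₐ[k] B ⊗[A] K :=
    { (Algebra.TensorProduct.includeRight : K →ₐ[A] B ⊗[A] K).toRingHom with commutes' := fun c => rfl }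
  let e₁ : T₂ →ₐ[k] B ⊗[A] K := Algebra.TensorProduct.lift eT eK fun _ _ => Commute.all _ _
  have hθ : ∀ (b : B) (c : K), θ (b ⊗ₜ c) = ((b ⊗ₜ 1) ⊗ₜ c : T₂) := fun b c => by
    simp [θ, T₂, T, Algebra.TensorProduct.algebraMap_apply]
  have he₁ : ∀ z, e₁ (θ z) = z := fun z => by
    induction z with
    | zero => simp
    | tmul b c =>
      rw [hθ]
      refine (Algebra.TensorProduct.lift_tmul eT eK (fun _ _ => Commute.all _ _) _ _).trans ?_
      show Algebra.TensorProduct.map (AlgHom.id A B) (IsScalarTower.toAlgHom A k K) (b ⊗ₜ 1) *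
        (Algebra.TensorProduct.includeRight : K →ₐ[A] B ⊗[A] K) c = b ⊗ₜ c
      simp
    | add x y hx hy => simp only [map_add, hx, hy]
  let s : T₂ →ₗ[B] B ⊗[A] K :=
    { toFun := e₁
      map_add' := map_add e₁
      map_smul' := fun b z => by
        rw [Algebra.smul_def, map_mul, RingHom.id_apply, Algebra.smul_def]
        congr 1
        rw [← θ.commutes b, he₁] }
  let f : ∀ (Q : Type u) [AddCommGroup Q] [Module B Q], (B ⊗[A] K) ⊗[B] Q →+ T₂ ⊗[T] (T ⊗[B] Q) :=
    fun Q _ _ => ((TensorProduct.AlgebraTensorModule.cancelBaseChange B T T₂ T₂ Q).symm.toAddMonoidHom).comp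
      (θ.toLinearMap.rTensor Q).toAddMonoidHom
  have hfs : ∀ (Q : Type u) [AddCommGroup Q] [Module B Q] (t : B ⊗[A] K) z, f Q (t • z) = θ t • f Q z := by
    intro Q _ _ t z
    induction z with
    | zero => simp
    | tmul t' q => simp [f, smul_tmul']
    | add x y hx hy => simp only [smul_add, map_add, hx, hy]
  refine h1.of_semilinear θ.toRingHom (f M) (fun j => f (N j)) ?_ (hfs M) (fun j => hfs (N j)) fun j z => ?_
  · refine (TensorProduct.AlgebraTensorModule.cancelBaseChange B T T₂ T₂ M).symm.injective.comp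
      (Function.LeftInverse.injective (g := s.rTensor M) fun z => ?_)
    show s.rTensor M (θ.toLinearMap.rTensor M z) = z
    rw [← LinearMap.comp_apply, ← LinearMap.rTensor_comp,
      show s ∘ₗ θ.toLinearMap = LinearMap.id from LinearMap.ext he₁, LinearMap.rTensor_id, LinearMap.id_apply]
  · induction z with
    | zero => simp
    | tmul t' q => simp [f]; rfl
    | add x y hx hy => simp only [map_add, hx, hy]

section Right

attribute [local instance] Algebra.TensorProduct.rightAlgebra

local instance smulCommClass_right (A₀ : Type u) [CommRing A₀] [Algebra A A₀] : SMulCommClass B A₀ (B ⊗[A] A₀) :=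
  ⟨fun b a z => by simp only [Algebra.smul_def]; ring⟩

/-- The base change of a module as a module over the right factor. -/
noncomputable def rightEquiv (A₀ : Type u) [CommRing A₀] [Algebra A A₀] (P : Type u) [AddCommGroup P] [Module B P]
    [Module A P] [IsScalarTower A B P] : (B ⊗[A] A₀) ⊗[B] P ≃ₗ[A₀] A₀ ⊗[A] P :=
  { ((bcEquiv (B := B) A₀ P).toAddEquiv.trans (TensorProduct.comm A P A₀).toAddEquiv) with
    map_smul' := fun a z => by
      show TensorProduct.comm A P A₀ (bcEquiv A₀ P (a • z)) = a • TensorProduct.comm A P A₀ (bcEquiv A₀ P z)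
      induction z with
      | zero => simp
      | tmul t q =>
        induction t with
        | zero => simp
        | tmul b a' =>
          rw [smul_tmul', Algebra.smul_def, show algebraMap A₀ (B ⊗[A] A₀) a = 1 ⊗ₜ a from rfl,
            Algebra.TensorProduct.tmul_mul_tmul, one_mul]
          simp [smul_tmul']
        | add x y hx hy => simp only [TensorProduct.add_tmul, smul_add, map_add, hx, hy]
      | add x y hx hy => simp only [smul_add, map_add, hx, hy] }

lemma rightEquiv_tmul (A₀ : Type u) [CommRing A₀] [Algebra A A₀] (P : Type u) [AddCommGroup P] [Module B P]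
    [Module A P] [IsScalarTower A B P] (b : B) (a : A₀) (p : P) :
    rightEquiv A₀ P ((b ⊗ₜ[A] a) ⊗ₜ[B] p) = a ⊗ₜ (b • p) := by
  show TensorProduct.comm A P A₀ (bcEquiv A₀ P ((b ⊗ₜ a) ⊗ₜ p)) = _
  simp

/-- Reading separation of a base change through an intermediate ring. -/
theorem locMSep_rTensor_of_baseChange (A₀ : Type u) [CommRing A₀] [Algebra A A₀] (K : Type u) [CommRing K]
    [Algebra A K] [Algebra A₀ K] [IsScalarTower A A₀ K] (hK : LocMSep fun j => (φ j).baseChange (B ⊗[A] K)) :
    LocMSep fun j => TensorProduct.AlgebraTensorModule.rTensor A₀ K ((φ j).baseChange (B ⊗[A] A₀)) := by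
  let θ : B ⊗[A] A₀ →ₐ[B] B ⊗[A] K :=
    Algebra.TensorProduct.map (AlgHom.id B B) (IsScalarTower.toAlgHom A A₀ K)
  let f : ∀ (Q : Type u) [AddCommGroup Q] [Module B Q] [Module A Q] [IsScalarTower A B Q],
      ((B ⊗[A] A₀) ⊗[B] Q) ⊗[A₀] K ≃+ (B ⊗[A] K) ⊗[B] Q := fun Q _ _ _ _ =>
    (((TensorProduct.congr (rightEquiv A₀ Q) (LinearEquiv.refl A₀ K)).trans
      (TensorProduct.comm A₀ _ K)).toAddEquiv.trans
      (TensorProduct.AlgebraTensorModule.cancelBaseChange A A₀ A₀ K Q).toAddEquiv).trans
      ((TensorProduct.comm A K Q).toAddEquiv.trans (bcEquiv K Q).symm.toAddEquiv)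
  have hf : ∀ (Q : Type u) [AddCommGroup Q] [Module B Q] [Module A Q] [IsScalarTower A B Q] (b : B) (a : A₀)
      (q : Q) (k : K), f Q (((b ⊗ₜ a) ⊗ₜ q) ⊗ₜ k) = (b ⊗ₜ (algebraMap A₀ K a * k)) ⊗ₜ q := by
    intro Q _ _ _ _ b a q k
    apply (bcEquiv K Q).injective
    simp [f, rightEquiv_tmul, Algebra.smul_def]
  have hfs : ∀ (Q : Type u) [AddCommGroup Q] [Module B Q] [Module A Q] [IsScalarTower A B Q] (t : B ⊗[A] A₀) z,
      f Q (t • z) = θ t • f Q z := by
    intro Q _ _ _ _ t z
    induction z with
    | zero => simp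
    | tmul s k =>
      induction s with
      | zero => simp
      | tmul t' q =>
        induction t' with
        | zero => simp
        | tmul b' a' =>
          induction t with
          | zero => simp
          | tmul b a =>
            rw [smul_tmul', smul_tmul', smul_eq_mul, Algebra.TensorProduct.tmul_mul_tmul, hf, hf,
              Algebra.TensorProduct.map_tmul, smul_tmul', smul_eq_mul, Algebra.TensorProduct.tmul_mul_tmul,
              map_mul, mul_assoc]
            rfl
          | add x y hx hy => simp only [add_smul, map_add, hx, hy]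
        | add x y hx hy => simp only [TensorProduct.add_tmul, smul_add, map_add, hx, hy]
      | add x y hx hy => simp only [TensorProduct.add_tmul, smul_add, map_add, hx, hy]
    | add x y hx hy => simp only [smul_add, map_add, hx, hy]
  refine hK.of_semilinear θ.toRingHom (f M).toAddMonoidHom (fun j => (f (N j)).toAddMonoidHom) (f M).injective
    (hfs M) (fun j => hfs (N j)) fun j z => ?_
  show f (N j) (TensorProduct.AlgebraTensorModule.rTensor A₀ K ((φ j).baseChange (B ⊗[A] A₀)) z) =
    (φ j).baseChange (B ⊗[A] K) (f M z)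
  induction z with
  | zero => simp
  | tmul s k =>
    induction s with
    | zero => simp
    | tmul t' q =>
      induction t' with
      | zero => simp
      | tmul b' a' => simp [hf]
      | add x y hx hy => simp only [TensorProduct.add_tmul, map_add, hx, hy]
    | add x y hx hy => simp only [TensorProduct.add_tmul, map_add, hx, hy]
  | add x y hx hy => simp only [map_add, hx, hy]

/-- Fibrewise separation over a Noetherian base change. -/
theorem locMSep_baseChange_of_fibrewise_aux [Module.Finite B M] [∀ j, Module.Flat A (N j)]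
    (H : ∀ (p : Ideal A) [p.IsPrime], LocMSep fun j => (φ j).baseChange (B ⊗[A] p.ResidueField))
    (A₀ : Type u) [CommRing A₀] [Algebra A A₀] [IsNoetherianRing (B ⊗[A] A₀)] :
    LocMSep fun j => (φ j).baseChange (B ⊗[A] A₀) := by
  haveI : ∀ j, Module.Flat A₀ ((B ⊗[A] A₀) ⊗[B] N j) := fun j => Module.Flat.of_linearEquiv (rightEquiv A₀ (N j))
  refine locMSep_of_fibrewise (A := A₀) fun P _ => ?_
  letI : Algebra (P.under A).ResidueField P.ResidueField :=
    (Ideal.ResidueField.map (P.under A) P (algebraMap A A₀) rfl).toAlgebra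
  haveI : IsScalarTower A (P.under A).ResidueField P.ResidueField := IsScalarTower.of_algebraMap_eq fun r => by
    rw [RingHom.algebraMap_toAlgebra, Ideal.ResidueField.map_algebraMap,
      IsScalarTower.algebraMap_apply A A₀ P.ResidueField]
  exact locMSep_rTensor_of_baseChange A₀ P.ResidueField (locMSep_extend_field (H (P.under A)) P.ResidueField)

/-- EGA IV 11.10.9: fibrewise separation implies universal separation. -/
theorem locMSep_baseChange_of_fibrewise [IsNoetherianRing B] [Module.Finite B M] [∀ j, Module.Flat A (N j)]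
    (H : ∀ (p : Ideal A) [p.IsPrime], LocMSep fun j => (φ j).baseChange (B ⊗[A] p.ResidueField))
    (A' : Type u) [CommRing A'] [Algebra A A'] :
    LocMSep fun j => (φ j).baseChange (B ⊗[A] A') :=
  locMSep_of_fg fun A₀ hfg =>
    haveI : Algebra.FiniteType A A₀ := (Subalgebra.fg_iff_finiteType A₀).mp hfg
    haveI : IsNoetherianRing (B ⊗[A] A₀) := Algebra.FiniteType.isNoetherianRing B (B ⊗[A] A₀)
    locMSep_baseChange_of_fibrewise_aux H A₀

end Right

end Groth.L07.ModSep
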