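import Groth.Agent.L07.ModSep.Scheme

/-!
# Separating families over an affine base
-/

universe u

open CategoryTheory Limits AlgebraicGeometry TopologicalSpace Opposite
open scoped TensorProduct

namespace Groth.L07.ModSep

set_option maxSynthPendingDepth 3
set_option linter.style.haveILetI false
set_option backward.isDefEq.respectTransparency.types false
set_option backward.isDefEq.respectTransparency false

variable {X : Scheme.{u}} {F : X.Modules} {ι : Type u} {G : ι → X.Modules}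

/-- The map from the base to the sections over an open of a scheme over `Spec A`. -/
noncomputable abbrev baseMap {A : CommRingCat.{u}} (p : X ⟶ Spec A) (U : X.Opens) : A ⟶ Γ(X, U) :=
  (Scheme.ΓSpecIso A).inv ≫ p.appLE ⊤ U (le_of_le_of_eq le_top (Scheme.Hom.preimage_top p).symm)

theorem flat_sections_spec {A : CommRingCat.{u}} (p : X ⟶ Spec A) (M : X.Modules) [Coh.IsQCoh M]
    (hflat : FlatMod.IsFlatOver p M) {U : X.Opens} (hU : IsAffineOpen U) :
    letI : Module A Γ(M, U) := Module.compHom _ (baseMap p U).hom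
    Module.Flat A Γ(M, U) := by
  have e : U ≤ p ⁻¹ᵁ ⊤ := le_of_le_of_eq le_top (Scheme.Hom.preimage_top p).symm
  letI : Module A Γ(M, U) := Module.compHom _ (baseMap p U).hom
  letI : Module Γ(Spec A, ⊤) Γ(M, U) := Module.compHom _ (p.appLE ⊤ U e).hom
  letI : Algebra A Γ(Spec A, ⊤) := (Scheme.ΓSpecIso A).inv.hom.toAlgebra
  haveI : IsScalarTower A Γ(Spec A, ⊤) Γ(M, U) := IsScalarTower.of_algebraMap_smul fun _ _ => rfl
  haveI : Module.Flat A Γ(Spec A, ⊤) :=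
    Module.Flat.of_linearEquiv (LinearEquiv.ofBijective (Algebra.linearMap A Γ(Spec A, ⊤))
      (ConcreteCategory.bijective_of_isIso (Scheme.ΓSpecIso A).inv)).symm
  haveI : Module.Flat Γ(Spec A, ⊤) Γ(M, U) := flat_sections p M hflat (isAffineOpen_top _) hU e
  exact Module.Flat.trans A Γ(Spec A, ⊤) Γ(M, U)

/-- Separation on the base change of an affine open along a map of rings. -/
theorem locMSep_spec_iff {A A' : CommRingCat.{u}} [Algebra A A'] (p : X ⟶ Spec A)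
    [Coh.IsQCoh F] [∀ i, Coh.IsQCoh (G i)] (u : ∀ i, F ⟶ G i) {U : X.Opens} (hU : IsAffineOpen U) :
    letI := (baseMap p U).hom.toAlgebra
    IsAffineOpen (pullback.fst p (Spec.map (CommRingCat.ofHom (algebraMap A A'))) ⁻¹ᵁ U) ∧
    (LocMSep (fun i => (secLin (u i) U).baseChange (Γ(X, U) ⊗[A] A')) ↔
      LocMSep fun i => secLin ((Scheme.Modules.pullback (pullback.fst p (Spec.map (CommRingCat.ofHom (algebraMap A A'))))).map (u i))
        (pullback.fst p (Spec.map (CommRingCat.ofHom (algebraMap A A'))) ⁻¹ᵁ U)) := by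
  let φ : A ⟶ A' := CommRingCat.ofHom (algebraMap A A')
  let g' := pullback.fst p (Spec.map φ)
  let f' := pullback.snd p (Spec.map φ)
  letI := (baseMap p U).hom.toAlgebra
  have eV : U ≤ p ⁻¹ᵁ ⊤ := le_of_le_of_eq le_top (Scheme.Hom.preimage_top p).symm
  have eW : (⊤ : (Spec A').Opens) ≤ (Spec.map φ) ⁻¹ᵁ ⊤ := le_of_eq (Scheme.Hom.preimage_top _).symm
  obtain ⟨hU', hp⟩ := Groth.L02.SchDom.affine_square (IsPullback.of_hasPullback p (Spec.map φ))
    (isAffineOpen_top (Spec A)) hU (isAffineOpen_top (Spec A')) eV eW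
  have hU'' : g' ⁻¹ᵁ U ⊓ f' ⁻¹ᵁ ⊤ = g' ⁻¹ᵁ U := by rw [Scheme.Hom.preimage_top, inf_top_eq]
  refine ⟨hU'' ▸ hU', ?_⟩
  -- the pushout square over `A`
  have hp' : IsPushout (baseMap p U) φ (g'.appLE U (g' ⁻¹ᵁ U ⊓ f' ⁻¹ᵁ ⊤) inf_le_left)
      ((Scheme.ΓSpecIso A').inv ≫ f'.appLE ⊤ (g' ⁻¹ᵁ U ⊓ f' ⁻¹ᵁ ⊤) inf_le_right) := by
    refine hp.of_iso (Scheme.ΓSpecIso A) (Iso.refl _) (Scheme.ΓSpecIso A') (Iso.refl _) ?_ ?_ ?_ ?_
    · simp [baseMap]
    · rw [Scheme.Hom.appLE, ← Scheme.ΓSpecIso_naturality]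
      simp [Scheme.Hom.appTop]
    · simp; rfl
    · simp; rfl
  letI : Algebra Γ(X, U) Γ(pullback p (Spec.map φ), g' ⁻¹ᵁ U ⊓ f' ⁻¹ᵁ ⊤) :=
    (g'.appLE U (g' ⁻¹ᵁ U ⊓ f' ⁻¹ᵁ ⊤) inf_le_left).hom.toAlgebra
  letI : Algebra A' Γ(pullback p (Spec.map φ), g' ⁻¹ᵁ U ⊓ f' ⁻¹ᵁ ⊤) :=
    ((Scheme.ΓSpecIso A').inv ≫ f'.appLE ⊤ (g' ⁻¹ᵁ U ⊓ f' ⁻¹ᵁ ⊤) inf_le_right).hom.toAlgebra
  letI : Algebra A Γ(pullback p (Spec.map φ), g' ⁻¹ᵁ U ⊓ f' ⁻¹ᵁ ⊤) :=
    ((algebraMap Γ(X, U) _).comp (algebraMap A Γ(X, U))).toAlgebra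
  haveI : IsScalarTower A Γ(X, U) Γ(pullback p (Spec.map φ), g' ⁻¹ᵁ U ⊓ f' ⁻¹ᵁ ⊤) :=
    IsScalarTower.of_algebraMap_eq fun _ => rfl
  haveI : IsScalarTower A A' Γ(pullback p (Spec.map φ), g' ⁻¹ᵁ U ⊓ f' ⁻¹ᵁ ⊤) :=
    IsScalarTower.of_algebraMap_eq fun a => congr($(hp'.w).hom a)
  haveI : Algebra.IsPushout A Γ(X, U) A' Γ(pullback p (Spec.map φ), g' ⁻¹ᵁ U ⊓ f' ⁻¹ᵁ ⊤) :=
    CommRingCat.isPushout_iff_isPushout.mp hp'
  have key := locMSep_pullback_iff g' F u hU hU' inf_le_left _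
    (Algebra.IsPushout.equiv A Γ(X, U) A' Γ(pullback p (Spec.map φ), g' ⁻¹ᵁ U ⊓ f' ⁻¹ᵁ ⊤))
  rw [key, hU'']

/-- Fibrewise separation gives separation on every affine square. -/
theorem locMSep_square_of_fibres {S : Scheme.{u}} [IsLocallyNoetherian X] (f : X ⟶ S) (hF : Coh.IsCoh F)
    [∀ i, Coh.IsQCoh (G i)] (hG : ∀ i, FlatMod.IsFlatOver f (G i)) (u : ∀ i, F ⟶ G i)
    (hfib : ∀ s, MSep fun i => (Scheme.Modules.pullback (f.fiberι s)).map (u i))
    {W : S.Opens} (hW : IsAffineOpen W) {V : X.Opens} (hV : IsAffineOpen V) (eV : V ≤ f ⁻¹ᵁ W)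
    (A' : Type u) [CommRing A'] [algA' : Algebra Γ(S, W) A'] :
    letI := (f.appLE W V eV).hom.toAlgebra
    LocMSep (fun i => (secLin (u i) V).baseChange (Γ(X, V) ⊗[Γ(S, W)] A')) := by
  haveI : Coh.IsQCoh F := hF.1
  letI : Algebra Γ(S, W) Γ(X, V) := (f.appLE W V eV).hom.toAlgebra
  letI : Module Γ(S, W) Γ(F, V) := Module.compHom _ (f.appLE W V eV).hom
  haveI : IsScalarTower Γ(S, W) Γ(X, V) Γ(F, V) := IsScalarTower.of_algebraMap_smul fun _ _ => rfl
  letI : ∀ i, Module Γ(S, W) Γ(G i, V) := fun i => Module.compHom _ (f.appLE W V eV).hom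
  haveI : ∀ i, IsScalarTower Γ(S, W) Γ(X, V) Γ(G i, V) := fun i => IsScalarTower.of_algebraMap_smul fun _ _ => rfl
  haveI : IsNoetherianRing Γ(X, V) := IsLocallyNoetherian.component_noetherian ⟨V, hV⟩
  haveI : Module.Finite Γ(X, V) Γ(F, V) := Groth.L20.ModStalk.finite_sections F hF hV
  haveI : ∀ i, Module.Flat Γ(S, W) Γ(G i, V) := fun i => flat_sections f (G i) (hG i) hW hV eV
  refine locMSep_baseChange_of_fibrewise (fun P hP => ?_) A'
  let s : S := hW.fromSpec ⟨P, hP⟩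
  let Sκ := Spec (S.residueField s)
  let gs : Sκ ⟶ S := S.fromSpecResidueField s
  have hsW : s ∈ W := hW.opensRange_fromSpec.le ⟨⟨P, hP⟩, rfl⟩
  have eW : (⊤ : Sκ.Opens) ≤ gs ⁻¹ᵁ W := fun z _ => by
    show gs z ∈ W
    rw [show gs z = s from Scheme.fromSpecResidueField_apply _ _]
    exact hsW
  obtain ⟨hU, hp⟩ := Groth.L02.SchDom.affine_square (IsPullback.of_hasPullback f gs) hW hV (isAffineOpen_top Sκ) eV eW
  haveI : Coh.IsQCoh ((Scheme.Modules.pullback (f.fiberι s)).obj F) := Groth.L16.AffineBC.isQCoh_pullback _ F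
  haveI : ∀ i, Coh.IsQCoh ((Scheme.Modules.pullback (f.fiberι s)).obj (G i)) :=
    fun i => Groth.L16.AffineBC.isQCoh_pullback _ (G i)
  let K := Γ(Sκ, ⊤)
  letI algK : Algebra Γ(S, W) K := (gs.appLE W ⊤ eW).hom.toAlgebra
  have h1 := (locMSep_square_iff u hV hU hp).mpr ((hfib s).locMSep hU)
  have hKf : IsField K :=
    MulEquiv.isField (Field.toIsField (S.residueField s))
      (Scheme.ΓSpecIso (S.residueField s)).commRingCatIsoToRingEquiv.toMulEquiv
  have hker : RingHom.ker (algebraMap Γ(S, W) K) = P := by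
    let z : (⊤ : Sκ.Opens) := ⟨IsLocalRing.closedPoint (S.residueField s), trivial⟩
    have h1 := IsAffineOpen.comap_primeIdealOf_appLE W hW ⊤ (isAffineOpen_top Sκ) eW z.2
    have hbot : ((isAffineOpen_top Sκ).primeIdealOf z).asIdeal = ⊥ := by
      letI := hKf.toField
      exact (Ideal.eq_bot_or_top _).resolve_right ((isAffineOpen_top Sκ).primeIdealOf z).isPrime.ne_top
    have h4 : RingHom.ker (algebraMap Γ(S, W) K) = (hW.primeIdealOf ⟨gs z.1, eW z.2⟩).asIdeal := by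
      rw [← congrArg PrimeSpectrum.asIdeal h1]
      show _ = Ideal.comap (algebraMap Γ(S, W) K) ((isAffineOpen_top Sκ).primeIdealOf z).asIdeal
      rw [hbot]
      rfl
    rw [h4]
    refine congrArg PrimeSpectrum.asIdeal (show hW.primeIdealOf _ = ⟨P, hP⟩ from
      hW.fromSpec.isOpenEmbedding.injective ((hW.fromSpec_primeIdealOf _).trans ?_))
    exact Scheme.fromSpecResidueField_apply _ _
  letI : Field K := hKf.toField
  let e : P.ResidueField →ₐ[Γ(S, W)] K := Ideal.ResidueField.liftₐ P (Algebra.ofId Γ(S, W) K) hker.ge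
    (fun a ha => IsUnit.mk0 _ fun h => ha (hker.le (RingHom.mem_ker.mpr h)))
  letI := e.toRingHom.toAlgebra
  haveI : IsScalarTower Γ(S, W) P.ResidueField K := IsScalarTower.of_algebraMap_eq fun r => (e.commutes r).symm
  exact locMSep_descend_field (K := K) h1

end Groth.L07.ModSep
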